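import Mathlib
import Groth.Prelude.Def_AnEps
import Groth.Agent.Lib.Helper7.AnDense.Main
import Groth.Agent.Lib.Helper7.AnProd.Main
import Groth.Agent.Lib.Helper5.Misc.LanFlat

set_option linter.style.haveILetI false
set_option linter.unusedVariables false
set_option linter.unusedSectionVars false
set_option autoImplicit false
set_option backward.isDefEq.respectTransparency.types false
set_option synthInstance.maxHeartbeats 400000
set_option maxHeartbeats 800000

open AlgebraicGeometry CategoryTheory CategoryTheory.Limits TopologicalSpace Opposite An Topology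

namespace Groth.Agent.Helper7.AnEps

section general

variable {P U V W : Scheme.{0}} [P.Over SC] [U.Over SC] [V.Over SC] [W.Over SC]
  (p₁ : P ⟶ U) (p₂ : P ⟶ V) (f : U ⟶ W) (g : V ⟶ W)
  [p₁.IsOver SC] [p₂.IsOver SC] [f.IsOver SC] [g.IsOver SC]

theorem pts_ext_of_isPullback (sq : IsPullback p₁ p₂ f g) (z z' : Pts P)
    (h1 : Pts.map p₁ z = Pts.map p₁ z') (h2 : Pts.map p₂ z = Pts.map p₂ z') : z = z' :=
  Subtype.ext (sq.hom_ext (congrArg Subtype.val h1) (congrArg Subtype.val h2))

theorem exists_inverse_of_isPullback (sq : IsPullback p₁ p₂ f g) :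
    ∃ φ : {q : Pts U × Pts V // Pts.map f q.1 = Pts.map g q.2} → Pts P,
      Continuous φ ∧ ∀ q, Pts.map p₁ (φ q) = q.1.1 ∧ Pts.map p₂ (φ q) = q.1.2 := by
  let e := sq.isoPullback
  haveI : e.inv.IsOver SC := ⟨by
    change e.inv ≫ (P ↘ SC) = pullback.fst f g ≫ (U ↘ SC)
    rw [← comp_over p₁ SC, ← Category.assoc, sq.isoPullback_inv_fst]⟩
  let H := (Groth.Agent.Helper7.AnProd.S4193_main U V W f g).homeomorph
  refine ⟨fun q => Pts.map e.inv (H.symm q),
    (Pts.continuous_map e.inv).comp H.symm.continuous, fun q => ?_⟩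
  have hq : H (H.symm q) = q := H.apply_symm_apply q
  have h1 : Pts.map (pullback.fst f g) (H.symm q) = q.1.1 := congrArg (fun r => r.1.1) hq
  have h2 : Pts.map (pullback.snd f g) (H.symm q) = q.1.2 := congrArg (fun r => r.1.2) hq
  constructor
  · rw [← h1]
    exact Subtype.ext (by
      change ((H.symm q).1 ≫ e.inv) ≫ p₁ = (H.symm q).1 ≫ pullback.fst f g
      rw [Category.assoc, sq.isoPullback_inv_fst])
  · rw [← h2]
    exact Subtype.ext (by
      change ((H.symm q).1 ≫ e.inv) ≫ p₂ = (H.symm q).1 ≫ pullback.snd f g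
      rw [Category.assoc, sq.isoPullback_inv_snd])

end general

section eps

variable (X : Scheme.{0}) [X.Over SC] [LocallyOfFiniteType (X ↘ SC)] [Fact EtaleLH]

instance lft_left (U : X.Etale) : LocallyOfFiniteType (U.left ↘ SC) := by
  change LocallyOfFiniteType ((U.left ↘ X) ≫ (X ↘ SC))
  infer_instance

theorem isPullback_eps {P U V W : X.Etale} {p₁ : P ⟶ U} {p₂ : P ⟶ V} {f : U ⟶ W} {g : V ⟶ W}
    (sq : IsPullback p₁ p₂ f g) :
    IsPullback ((eps X).map p₁) ((eps X).map p₂) ((eps X).map f) ((eps X).map g) := by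
  have sq' : IsPullback p₁.left p₂.left f.left g.left :=
    (sq.map (Scheme.Etale.forget X)).map (CategoryTheory.Over.forget X)
  obtain ⟨φ, hφc, hφ⟩ := exists_inverse_of_isPullback p₁.left p₂.left f.left g.left sq'
  have hw : (eps X).map p₁ ≫ (eps X).map f = (eps X).map p₂ ≫ (eps X).map g := by
    rw [← Functor.map_comp, ← Functor.map_comp, sq.w]
  have hcond : ∀ (s : PullbackCone ((eps X).map f) ((eps X).map g)) (d : s.pt.E),
      Pts.map f.left (s.fst.toFun d) = Pts.map g.left (s.snd.toFun d) := fun s d =>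
    congrArg (fun m => m.toFun d) s.condition
  let lift : ∀ s : PullbackCone ((eps X).map f) ((eps X).map g), s.pt ⟶ (eps X).obj P := fun s =>
    ⟨fun d => φ ⟨(s.fst.toFun d, s.snd.toFun d), hcond s d⟩,
     hφc.comp (Continuous.subtype_mk (s.fst.continuous.prodMk s.snd.continuous) _),
     fun d => (((eps X).map p₁).over (φ ⟨_, hcond s d⟩)).symm.trans
        ((congrArg ((eps X).obj U).p (hφ ⟨_, hcond s d⟩).1).trans (s.fst.over d))⟩
  refine ⟨⟨hw⟩, ⟨PullbackCone.IsLimit.mk hw lift (fun s => ?_) (fun s => ?_)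
    (fun s m h1 h2 => ?_)⟩⟩
  · exact Cl.hom_ext (funext fun d => (hφ ⟨_, hcond s d⟩).1)
  · exact Cl.hom_ext (funext fun d => (hφ ⟨_, hcond s d⟩).2)
  · refine Cl.hom_ext (funext fun d =>
      pts_ext_of_isPullback p₁.left p₂.left f.left g.left sq' _ _ ?_ ?_)
    · have e1 : Pts.map p₁.left (φ ⟨(s.fst.toFun d, s.snd.toFun d), hcond s d⟩) = s.fst.toFun d :=
        (hφ _).1
      exact (congrArg (fun k => k.toFun d) h1).trans e1.symm
    · have e2 : Pts.map p₂.left (φ ⟨(s.fst.toFun d, s.snd.toFun d), hcond s d⟩) = s.snd.toFun d :=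
        (hφ _).2
      exact (congrArg (fun k => k.toFun d) h2).trans e2.symm

instance preservesPullbacks_eps : PreservesLimitsOfShape WalkingCospan (eps X) := by
  constructor
  intro K
  haveI : PreservesLimit (cospan (K.map WalkingCospan.Hom.inl) (K.map WalkingCospan.Hom.inr))
      (eps X) := by
    apply preservesLimit_of_preserves_limit_cone (pullbackIsPullback _ _)
    exact (isLimitMapConePullbackConeEquiv (eps X) pullback.condition).symm
      (isPullback_eps X (IsPullback.of_hasPullback _ _)).isLimit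
  exact preservesLimit_of_iso_diagram (eps X) (diagramIsoCospan K).symm

noncomputable def isTerminal_eps_top : IsTerminal ((eps X).obj (EtCoh.top X)) :=
  IsTerminal.ofUniqueHom
    (fun A => (⟨fun a => Pts.cast _ _ (over_top_eq X).symm (A.p a),
      (Pts.cast _ _ (over_top_eq X).symm).continuous.comp A.lh.continuous,
      fun a => Subtype.ext (by
        change (A.p a).1 ≫ 𝟙 X = (A.p a).1
        exact Category.comp_id _)⟩ : A ⟶ (eps X).obj (EtCoh.top X)))
    (fun A m => Cl.hom_ext (funext fun a => Subtype.ext (by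
      have h := congrArg Subtype.val (m.over a)
      change (m.toFun a).1 ≫ 𝟙 X = (A.p a).1 at h
      exact (Category.comp_id _).symm.trans h)))

instance preservesTerminal_eps : PreservesLimitsOfShape (Discrete PEmpty.{1}) (eps X) := by
  have hT : IsTerminal (EtCoh.top X) := MorphismProperty.Over.mkIdTerminal @Etale X
  haveI : PreservesLimit (Functor.empty.{0} X.Etale) (eps X) :=
    preservesLimit_of_preserves_limit_cone hT
      ((isLimitMapConeEmptyConeEquiv (eps X) (EtCoh.top X)).symm (isTerminal_eps_top X))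
  exact preservesLimitsOfShape_pempty_of_preservesTerminal _

instance preservesFiniteLimits_eps : PreservesFiniteLimits (eps X) :=
  preservesFiniteLimits_of_preservesTerminal_and_pullbacks _

instance flat_eps : RepresentablyFlat (eps X) := flat_of_preservesFiniteLimits _

theorem coverPreserving_eps :
    CoverPreserving X.smallEtaleTopology (Cl.topology (Pts X)) (eps X) := by
  constructor
  intro W R hR
  obtain ⟨ι, Z, f, rfl⟩ := R.exists_eq_ofArrows
  rw [Scheme.ofArrows_mem_smallEtaleTopology_iff] at hR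
  intro a
  have ha : a.pt ∈ ⋃ i, Set.range (f i).left := by rw [hR]; trivial
  obtain ⟨i, hi⟩ := Set.mem_iUnion.1 ha
  obtain ⟨b, hb⟩ := Groth.Agent.Helper7.AnDense.exists_lift_of_mem_range (f i).left a hi
  have hlh : IsLocalHomeomorph (Pts.map (f i).left) :=
    (Fact.out : EtaleLH) (Z i).left W.left (f i).left
  obtain ⟨e, hbe, hfe⟩ := hlh b
  refine ⟨Cl.restrictOpen ((eps X).obj (Z i)) e.source e.open_source,
    Cl.restrictOpenι _ _ _ ≫ (eps X).map (f i), ?_, ?_, ?_⟩
  · exact ⟨Z i, f i, Cl.restrictOpenι _ _ _, Sieve.ofArrows_mk _ _ i, rfl⟩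
  · have h1 : (Cl.restrictOpenι ((eps X).obj (Z i)) e.source e.open_source ≫
        (eps X).map (f i)).toFun = e.source.domRestrict e := by
      funext z
      change Pts.map (f i).left z.1 = e z.1
      rw [hfe]
    rw [h1]
    exact e.isOpenEmbedding_restrict
  · exact ⟨⟨b, hbe⟩, hb⟩

theorem S4209_main : EpsCont X :=
  (Functor.isContinuous_iff_coverPreserving).2 (coverPreserving_eps X)

theorem S4210_main [EpsCont X] : PreservesFiniteLimits (epsPull X) := by
  have : AB5OfSize.{0, 1} AddCommGrpCat.{1} :=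
    AB5OfSize_shrink.{0, 1, 1, 1} AddCommGrpCat.{1}
  exact Groth.Agent.Lib.Helper5.Misc.LanFlat.preservesFiniteLimits_sheafPullback (eps X)
    AddCommGrpCat.{1} _ _

end eps

end Groth.Agent.Helper7.AnEps
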